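import Cfsg.Agent.Lib.KnownA.CosetInv

/-! Coset enumeration certificate for the presented HN. -/

set_option autoImplicit false
set_option maxRecDepth 100000

namespace CfsgLib.InvChar.SporHN.PB2

open CfsgLib.InvChar.Coset CfsgLib.KnownA

/-- facts -/
noncomputable def facts : Tr := (.leaf 0x14000000000142000130001320001200012200011000110000100001020000f0000f20000e0000e10000d0000d20000c0000c20000b0000b20000a0000a000009000092000080000820000700007100006000062000050000520000400004200003000030000020000220000100001200000)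
/-- justifications -/
noncomputable def just : Tr := (.leaf 0x4000080000c0001000014000180001c0002000024000280002c0003000034000380003c0004000044000480004d0103014000)
/-- relators -/
def rels : List (List ℕ) := [[2, 2, 2, 2, 2, 2], [0, 0, 2, 0, 0, 3], [1, 3, 0, 2, 1, 3, 0, 2, 1, 3, 0, 2], [1, 2, 2, 0, 2, 2, 2, 1, 2, 2, 0, 2, 2, 2, 1, 2, 2, 0, 2, 2, 2], [0, 2, 0, 2, 0, 2, 0, 2, 0, 2, 0, 2, 0, 2, 0, 2], [0, 2, 0, 2, 2, 2, 0, 2, 0, 2, 2, 2, 0, 2, 0, 2, 2, 2, 0, 2, 0, 2, 2, 2], [0, 0, 0, 0], [0, 1], [1, 0], [2, 3], [3, 2]]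
/-- subgroup words -/
def subs : List (List ℕ) := []
/-- certificate -/
noncomputable def cert : CosetInv.Cert := ⟨21, 20, facts, just, rels, subs, 0xfedcba9876542301⟩
/-- facts along the walk -/
noncomputable def goalPath : ℕ := 0x14000130001200011000100000f0000e0000d0000c0000b0000a00009000080000700006000050000400003000020000100000
/-- the word -/
def goal : List ℕ := [2, 2, 0, 2, 2, 2, 1, 2, 2, 0, 2, 2, 2, 1, 2, 2, 0, 2, 2, 2, 1]

end CfsgLib.InvChar.SporHN.PB2
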